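import Cfsg.Agent.Helper78.Olsson.Defs
import Cfsg.Agent.Helper16.CycloIneq

/-!
# (AVG) the Galois-averaged quadratic form bound (piece of Olsson's theorem, S4539)
-/

set_option autoImplicit false
set_option linter.unusedSectionVars false
set_option linter.unusedVariables false

noncomputable section

namespace Cfsg.Agent.Helper73.Olsson

open Cfsg
open scoped ComplexConjugate
open Cfsg.Agent.Helper78.Olsson (unitsRange)

/-- `|X - Y|² = |X|² + |Y|² - X conj Y - Y conj X` in `ℂ`. -/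
theorem normSq_sub_cast (X Y : ℂ) :
    ((Complex.normSq (X - Y) : ℝ) : ℂ) =
      X * conj X + Y * conj Y - X * conj Y - Y * conj X := by
  rw [← Complex.mul_conj, map_sub]
  ring

/-- (AVG) the Galois-averaged quadratic form bound. -/
theorem card_le_of_rows {p : ℕ} (hp : p.Prime) (n : ℕ) {K ι : Type*} [Fintype K] [Fintype ι]
    (S : Finset K) (A : K → ι → Fin 2 → ℤ) (μ : ι → ℂ) (hμ : ∀ θ, μ θ ^ (p ^ n) = 1)
    (c : Matrix (Fin 2) (Fin 2) ℤ)
    (horth : ∀ γ ∈ unitsRange p n, ∀ i j : Fin 2,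
      ∑ χ : K, (∑ θ, (A χ θ i : ℂ) * μ θ ^ γ) * conj (∑ θ, (A χ θ j : ℂ) * μ θ ^ γ) = (c i j : ℂ))
    (hnz : ∀ χ ∈ S, ¬ (∑ θ, (A χ θ 0 : ℂ) * μ θ = 0 ∧ ∑ θ, (A χ θ 1 : ℂ) * μ θ = 0)) :
    (S.card : ℤ) ≤ c 0 0 + c 1 1 - c 0 1 := by
  classical
  have hΓcard : (unitsRange p n).card = (p ^ n).totient := by
    rw [Nat.totient_eq_card_coprime]
    rfl
  have hφpos : 0 < (p ^ n).totient := Nat.totient_pos.mpr (pow_pos hp.pos n)
  have hΓne : (unitsRange p n).Nonempty := by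
    rw [← Finset.card_pos, hΓcard]; exact hφpos
  -- the three power forms
  set X : K → ℕ → ℂ := fun χ γ => ∑ θ, (A χ θ 0 : ℂ) * μ θ ^ γ with hX
  set Y : K → ℕ → ℂ := fun χ γ => ∑ θ, (A χ θ 1 : ℂ) * μ θ ^ γ with hY
  set Z : K → ℕ → ℂ := fun χ γ => ∑ θ, ((A χ θ 0 - A χ θ 1 : ℤ) : ℂ) * μ θ ^ γ with hZdef
  have hZ : ∀ χ γ, Z χ γ = X χ γ - Y χ γ := by
    intro χ γ
    simp only [hX, hY, hZdef]
    rw [← Finset.sum_sub_distrib]
    refine Finset.sum_congr rfl (fun θ _ => ?_)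
    push_cast; ring
  have h00 : ∀ γ ∈ unitsRange p n, ∑ χ : K, X χ γ * conj (X χ γ) = (c 0 0 : ℂ) :=
    fun γ hγ => horth γ hγ 0 0
  have h01 : ∀ γ ∈ unitsRange p n, ∑ χ : K, X χ γ * conj (Y χ γ) = (c 0 1 : ℂ) :=
    fun γ hγ => horth γ hγ 0 1
  have h10 : ∀ γ ∈ unitsRange p n, ∑ χ : K, Y χ γ * conj (X χ γ) = (c 1 0 : ℂ) :=
    fun γ hγ => horth γ hγ 1 0
  have h11 : ∀ γ ∈ unitsRange p n, ∑ χ : K, Y χ γ * conj (Y χ γ) = (c 1 1 : ℂ) :=
    fun γ hγ => horth γ hγ 1 1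
  -- symmetry of `c`
  have hsym : (c 1 0 : ℂ) = (c 0 1 : ℂ) := by
    obtain ⟨γ0, hγ0⟩ := hΓne
    have e1 := h01 γ0 hγ0
    have e2 := h10 γ0 hγ0
    have e3 : conj (∑ χ : K, X χ γ0 * conj (Y χ γ0)) = ∑ χ : K, Y χ γ0 * conj (X χ γ0) := by
      rw [map_sum]
      refine Finset.sum_congr rfl (fun χ _ => ?_)
      rw [map_mul, Complex.conj_conj, mul_comm]
    rw [e1, e2, map_intCast] at e3
    exact e3.symm
  -- the total at each unit
  have htot : ∀ γ ∈ unitsRange p n,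
      ∑ χ : K, (Complex.normSq (X χ γ) + Complex.normSq (Y χ γ) + Complex.normSq (Z χ γ)) =
        2 * ((c 0 0 + c 1 1 - c 0 1 : ℤ) : ℝ) := by
    intro γ hγ
    apply Complex.ofReal_injective
    push_cast
    have e : ∀ χ : K, ((Complex.normSq (X χ γ) : ℝ) : ℂ) + ((Complex.normSq (Y χ γ) : ℝ) : ℂ) +
        ((Complex.normSq (Z χ γ) : ℝ) : ℂ) =
        2 * (X χ γ * conj (X χ γ)) + 2 * (Y χ γ * conj (Y χ γ)) - X χ γ * conj (Y χ γ) -
          Y χ γ * conj (X χ γ) := by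
      intro χ
      rw [hZ, normSq_sub_cast, ← Complex.mul_conj, ← Complex.mul_conj]
      ring
    rw [Finset.sum_congr rfl (fun χ _ => e χ)]
    rw [Finset.sum_sub_distrib, Finset.sum_sub_distrib, Finset.sum_add_distrib,
      ← Finset.mul_sum, ← Finset.mul_sum, h00 γ hγ, h01 γ hγ, h10 γ hγ, h11 γ hγ, hsym]
    ring
  -- the lower bound for `χ ∈ S`
  have hfilter : unitsRange p n =
      (Finset.range (p ^ n)).filter (fun γ => Nat.Coprime (p ^ n) γ) := rfl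
  have hlowX : ∀ χ : K, X χ 1 ≠ 0 →
      ((p ^ n).totient : ℝ) ≤ ∑ γ ∈ unitsRange p n, Complex.normSq (X χ γ) := by
    intro χ h
    have h1 : ∑ θ ∈ (Finset.univ : Finset ι), ((A χ θ 0 : ℤ) : ℂ) * μ θ ≠ 0 := by
      simpa [hX] using h
    have := Cfsg.Agent.Helper16.sum_normSq_ge_totient hp n Finset.univ (fun θ => A χ θ 0) μ
      (fun θ _ => hμ θ) h1
    rw [hfilter]
    exact this
  have hlowY : ∀ χ : K, Y χ 1 ≠ 0 →
      ((p ^ n).totient : ℝ) ≤ ∑ γ ∈ unitsRange p n, Complex.normSq (Y χ γ) := by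
    intro χ h
    have h1 : ∑ θ ∈ (Finset.univ : Finset ι), ((A χ θ 1 : ℤ) : ℂ) * μ θ ≠ 0 := by
      simpa [hY] using h
    have := Cfsg.Agent.Helper16.sum_normSq_ge_totient hp n Finset.univ (fun θ => A χ θ 1) μ
      (fun θ _ => hμ θ) h1
    rw [hfilter]
    exact this
  have hlowZ : ∀ χ : K, Z χ 1 ≠ 0 →
      ((p ^ n).totient : ℝ) ≤ ∑ γ ∈ unitsRange p n, Complex.normSq (Z χ γ) := by
    intro χ h
    have h1 : ∑ θ ∈ (Finset.univ : Finset ι), ((A χ θ 0 - A χ θ 1 : ℤ) : ℂ) * μ θ ≠ 0 := by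
      simpa [hZdef] using h
    have := Cfsg.Agent.Helper16.sum_normSq_ge_totient hp n Finset.univ
      (fun θ => A χ θ 0 - A χ θ 1) μ (fun θ _ => hμ θ) h1
    rw [hfilter]
    exact this
  have hnonnegX : ∀ χ : K, 0 ≤ ∑ γ ∈ unitsRange p n, Complex.normSq (X χ γ) :=
    fun χ => Finset.sum_nonneg (fun γ _ => Complex.normSq_nonneg _)
  have hnonnegY : ∀ χ : K, 0 ≤ ∑ γ ∈ unitsRange p n, Complex.normSq (Y χ γ) :=
    fun χ => Finset.sum_nonneg (fun γ _ => Complex.normSq_nonneg _)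
  have hnonnegZ : ∀ χ : K, 0 ≤ ∑ γ ∈ unitsRange p n, Complex.normSq (Z χ γ) :=
    fun χ => Finset.sum_nonneg (fun γ _ => Complex.normSq_nonneg _)
  set F : K → ℝ := fun χ => ∑ γ ∈ unitsRange p n,
    (Complex.normSq (X χ γ) + Complex.normSq (Y χ γ) + Complex.normSq (Z χ γ)) with hF
  have hFsplit : ∀ χ : K, F χ = ∑ γ ∈ unitsRange p n, Complex.normSq (X χ γ) +
      ∑ γ ∈ unitsRange p n, Complex.normSq (Y χ γ) +
      ∑ γ ∈ unitsRange p n, Complex.normSq (Z χ γ) := by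
    intro χ
    simp only [hF]
    rw [Finset.sum_add_distrib, Finset.sum_add_distrib]
  have hFnonneg : ∀ χ : K, 0 ≤ F χ := by
    intro χ
    rw [hFsplit]
    have := hnonnegX χ; have := hnonnegY χ; have := hnonnegZ χ
    linarith
  have hFS : ∀ χ ∈ S, 2 * ((p ^ n).totient : ℝ) ≤ F χ := by
    intro χ hχ
    have hn := hnz χ hχ
    have hX1 : X χ 1 = ∑ θ, (A χ θ 0 : ℂ) * μ θ := by
      simp only [hX, pow_one]
    have hY1 : Y χ 1 = ∑ θ, (A χ θ 1 : ℂ) * μ θ := by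
      simp only [hY, pow_one]
    rw [← hX1, ← hY1] at hn
    rw [hFsplit]
    have a1 := hnonnegX χ; have a2 := hnonnegY χ; have a3 := hnonnegZ χ
    by_cases hx : X χ 1 = 0
    · have hy : Y χ 1 ≠ 0 := fun hy => hn ⟨hx, hy⟩
      have hz : Z χ 1 ≠ 0 := by
        rw [hZ, hx, zero_sub]
        exact neg_ne_zero.mpr hy
      have := hlowY χ hy; have := hlowZ χ hz
      linarith
    · by_cases hy : Y χ 1 = 0
      · have hz : Z χ 1 ≠ 0 := by
          rw [hZ, hy, sub_zero]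
          exact hx
        have := hlowX χ hx; have := hlowZ χ hz
        linarith
      · have := hlowX χ hx; have := hlowY χ hy
        linarith
  -- the double count
  have hsumF : ∑ χ : K, F χ =
      ((p ^ n).totient : ℝ) * (2 * ((c 0 0 + c 1 1 - c 0 1 : ℤ) : ℝ)) := by
    simp only [hF]
    rw [Finset.sum_comm, Finset.sum_congr rfl htot, Finset.sum_const, nsmul_eq_mul, hΓcard]
  have hSle : ∑ χ ∈ S, F χ ≤ ∑ χ : K, F χ :=
    Finset.sum_le_sum_of_subset_of_nonneg (Finset.subset_univ S) (fun χ _ _ => hFnonneg χ)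
  have hSge : (S.card : ℝ) * (2 * ((p ^ n).totient : ℝ)) ≤ ∑ χ ∈ S, F χ := by
    have := Finset.card_nsmul_le_sum S F (2 * ((p ^ n).totient : ℝ)) hFS
    rwa [nsmul_eq_mul] at this
  have hφR : (0 : ℝ) < ((p ^ n).totient : ℝ) := by exact_mod_cast hφpos
  have hfinal : (S.card : ℝ) ≤ ((c 0 0 + c 1 1 - c 0 1 : ℤ) : ℝ) := by
    have h1 : (S.card : ℝ) * (2 * ((p ^ n).totient : ℝ)) ≤
        ((p ^ n).totient : ℝ) * (2 * ((c 0 0 + c 1 1 - c 0 1 : ℤ) : ℝ)) := by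
      linarith
    have h2 : (2 * ((p ^ n).totient : ℝ)) * (S.card : ℝ) ≤
        (2 * ((p ^ n).totient : ℝ)) * ((c 0 0 + c 1 1 - c 0 1 : ℤ) : ℝ) := by
      linarith
    exact le_of_mul_le_mul_left h2 (by linarith)
  exact_mod_cast hfinal

end Cfsg.Agent.Helper73.Olsson

end
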